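import Groth.Agent.GrpArtin.Spread
import Mathlib

/-!
# Quasi-finite homomorphisms of group schemes are finite
-/

set_option autoImplicit false
set_option backward.isDefEq.respectTransparency false

universe u

open CategoryTheory MonoidalCategory CartesianMonoidalCategory MonObj GrpObj AlgebraicGeometry
  Limits TopologicalSpace

namespace Groth.Agent.GrpArtin.Spread

open Groth.Agent

/-- A quasi-finite separated morphism is finite over a neighbourhood of a maximal point of its image. -/
theorem exists_isFinite_restrict {X Y : Scheme.{u}} (g : X ⟶ Y) [LocallyOfFiniteType g] [IsSeparated g]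
    [QuasiCompact g] [LocallyQuasiFinite g] [NoetherianSpace X] (y₀ : Y) (hy₀ : ∀ x, g x ⤳ y₀ → g x = y₀) :
    ∃ V : Y.Opens, y₀ ∈ V ∧ IsFinite (g ∣_ V) := by
  let j := g.toNormalization
  let π' := g.fromNormalization
  have hj : g = j ≫ π' := g.toNormalization_fromNormalization.symm
  let S : Set X := {a | GrpScheme.Component.IsMaxGen a}
  have hS : S.Finite := Set.Finite.of_injOn (f := fun a => closure ({a} : Set X)) (t := irreducibleComponents X)
    (fun a ha => GrpScheme.Component.isMaxGen_iff.mp ha)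
    (fun a _ b _ h => (inseparable_iff_closure_eq.mpr h).eq) NoetherianSpace.finite_irreducibleComponents
  have hcov : (Set.univ : Set g.normalization) ⊆ ⋃ a ∈ S, closure {j a} := by
    rw [← (j.denseRange.closure_range : closure (Set.range j) = Set.univ)]
    refine closure_minimal ?_ (hS.isClosed_biUnion fun a _ => isClosed_closure)
    rintro _ ⟨x, rfl⟩
    obtain ⟨a, ha, hax⟩ := GrpScheme.Component.exists_isMaxGen x
    exact Set.mem_biUnion ha (specializes_iff_mem_closure.mp (hax.map j.continuous))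
  have hz₀ : ∀ z, π' z = y₀ → z ∈ Set.range j := fun z hz => by
    obtain ⟨a, -, haz⟩ := Set.mem_iUnion₂.mp (hcov (Set.mem_univ z))
    have hspec : j a ⤳ z := specializes_iff_mem_closure.mpr haz
    have hga : π' (j a) = g a := ((congrArg (fun m : X ⟶ Y => m a) hj).trans (Scheme.Hom.comp_apply _ _ _)).symm
    have he : π' (j a) = π' z := by
      rw [hz, hga]
      refine hy₀ a ?_
      rw [← hga, ← hz]
      exact hspec.map π'.continuous
    exact ⟨a, GrpScheme.Dimension.eq_of_specializes_of_apply_eq π' hspec he⟩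
  have hC : IsClosed (π' '' (Set.range j)ᶜ) := π'.isClosedMap _ j.isOpenEmbedding.isOpen_range.isClosed_compl
  let V : Y.Opens := ⟨(π' '' (Set.range j)ᶜ)ᶜ, hC.isOpen_compl⟩
  refine ⟨V, ?_, ?_⟩
  · rintro ⟨z, hz, hzη⟩
    exact hz (hz₀ z hzη)
  have : Surjective (j ∣_ π' ⁻¹ᵁ V) := ⟨fun z => by
    obtain ⟨x, hx⟩ : z.1 ∈ Set.range j := by
      by_contra h
      exact z.2 ⟨z.1, h, rfl⟩
    exact ⟨⟨x, show j x ∈ π' ⁻¹ᵁ V from hx ▸ z.2⟩, Subtype.ext (Eq.trans (by
      show ((j ∣_ π' ⁻¹ᵁ V) ≫ (π' ⁻¹ᵁ V).ι) _ = j x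
      rw [morphismRestrict_ι]; rfl) hx)⟩⟩
  have : IsIso (j ∣_ π' ⁻¹ᵁ V) := (isIso_iff_isOpenImmersion_and_surjective _).mpr ⟨inferInstance, inferInstance⟩
  refine (IsFinite.iff_isIntegralHom_and_locallyOfFiniteType _).mpr ⟨?_, IsZariskiLocalAtTarget.restrict ‹LocallyOfFiniteType g› _⟩
  have h1 : IsIntegralHom ((j ≫ π') ∣_ V) := by
    rw [morphismRestrict_comp]
    have : IsIntegralHom (π' ∣_ V) := IsZariskiLocalAtTarget.restrict (inferInstance : IsIntegralHom π') _
    infer_instance
  exact hj.symm ▸ h1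

variable {K : Type u} [Field K] [IsAlgClosed K] {P Q : Over (Spec (CommRingCat.of K))} [GrpObj P] [GrpObj Q]
  [LocallyOfFiniteType P.hom] [LocallyOfFiniteType Q.hom] (f : P ⟶ Q) [IsMonHom f] [QuasiCompact f.left]

/-- A discrete fibre over the unit makes a homomorphism quasi-finite. -/
theorem locallyQuasiFinite_of_isDiscrete
    (h : _root_.IsDiscrete (f.left ⁻¹' {η[Q].left (IsLocalRing.closedPoint K)})) : LocallyQuasiFinite f.left := by
  have := lft_left f
  have hJP : JacobsonSpace P.left := LocallyOfFiniteType.jacobsonSpace P.hom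
  rw [← Scheme.Hom.quasiFiniteLocus_eq_top_iff]
  by_contra hne
  obtain ⟨x, hx, hxc⟩ := nonempty_inter_closedPoints (Z := (f.left.quasiFiniteLocus : Set P.left)ᶜ)
    (Set.nonempty_compl.2 fun h => hne (Opens.ext h)) f.left.quasiFiniteLocus.isOpen.isClosed_compl.isLocallyClosed
  refine hx ?_
  let p : 𝟙_ _ ⟶ P := Over.homMk _ ((pointEquivClosedPoint P.hom).symm ⟨x, hxc⟩).2
  have hp : p.left (IsLocalRing.closedPoint K) = x := pointOfClosedPoint_apply P.hom x hxc _
  let α : P ≅ P := GrpScheme.Basic.translate p⁻¹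
  let β : Q ≅ Q := GrpScheme.Basic.translate (p⁻¹ ≫ f)
  have hαβ : α.hom ≫ f = f ≫ β.hom := by
    simp only [α, β, GrpScheme.Basic.translate, MonObj.mul_comp, MonObj.comp_mul, Category.id_comp,
      Category.comp_id, Category.assoc, comp_toUnit_assoc]
  have := GrpScheme.Basic.isIso_left α.hom
  have := GrpScheme.Basic.isIso_left β.hom
  have hβ : β.hom.left (f.left x) = η[Q].left (IsLocalRing.closedPoint K) := by
    rw [← hp]
    show (p ≫ f ≫ β.hom).left (IsLocalRing.closedPoint K) = _
    have e : p ≫ α.hom = 1 := by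
      simp only [α, GrpScheme.Basic.translate, MonObj.comp_mul, comp_toUnit_assoc, Category.comp_id]
      rw [toUnit_unique (toUnit _) (𝟙 _), Category.id_comp]
      simp only [Category.id_comp, inv_mul_cancel]
    have e2 : p ≫ f ≫ β.hom = η[Q] := by
      rw [← hαβ, ← Category.assoc, e, MonObj.one_comp, Hom.one_def, toUnit_unique (toUnit _) (𝟙 _), Category.id_comp]
    rw [e2]
  have hfib : f.left ⁻¹' {f.left x} = α.hom.left ⁻¹' (f.left ⁻¹' {η[Q].left (IsLocalRing.closedPoint K)}) := by
    ext y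
    have e : f.left (α.hom.left y) = β.hom.left (f.left y) := by
      rw [← Scheme.Hom.comp_apply, ← Scheme.Hom.comp_apply, ← Over.comp_left, ← Over.comp_left, hαβ]
    simp only [Set.mem_preimage, Set.mem_singleton_iff, e, ← hβ]
    exact (β.hom.left.homeomorph.injective.eq_iff).symm
  have hdisc : _root_.IsDiscrete (f.left ⁻¹' {f.left x}) := by
    rw [hfib]
    exact h.preimage α.hom.left.continuous.continuousOn α.hom.left.homeomorph.injective
  show f.left.QuasiFiniteAt x
  refine Scheme.Hom.quasiFiniteAt_iff_isOpen_singleton_asFiber.mpr ?_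
  have := hdisc.to_subtype
  have h2 := (f.left.fiberHomeo (f.left x)).symm.isOpen_image.mpr
    (isOpen_discrete ({⟨x, rfl⟩} : Set ↥(f.left ⁻¹' {f.left x})))
  rwa [Set.image_singleton] at h2

/-- A quasi-finite separated homomorphism is finite. -/
theorem isFinite_of_locallyQuasiFinite [LocallyQuasiFinite f.left] [IsSeparated f.left] : IsFinite f.left := by
  have := lft_left f
  have : IsLocallyNoetherian P.left := LocallyOfFiniteType.isLocallyNoetherian P.hom
  refine of_exists_open f @IsFinite (fun X Y g h => inferInstance) ?_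
  let R : Set Q.left := Set.range f.left
  have hR : IsClosed R := GrpScheme.ClosedImage.isClosed_range f
  have : QuasiSober R := hR.isClosedEmbedding_subtypeVal.quasiSober
  obtain ⟨η', hη', -⟩ := GrpScheme.Component.exists_isMaxGen (X := R) ⟨_, ⟨η[P].left (IsLocalRing.closedPoint K), rfl⟩⟩
  have hmax : ∀ x, f.left x ⤳ η'.1 → f.left x = η'.1 := fun x hx =>
    congrArg Subtype.val (hη' ⟨f.left x, x, rfl⟩ ((subtype_specializes_iff _ _).mpr hx))
  obtain ⟨U, hU, hηU, -⟩ := exists_isAffineOpen_mem_and_subset (X := Q.left) (x := η'.1) (U := ⊤) trivial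
  let g := f.left ∣_ U
  have : IsAffine (U : Scheme.{u}) := hU
  have : CompactSpace ↥(f.left ⁻¹ᵁ U : Scheme.{u}) := QuasiCompact.compactSpace_of_compactSpace g
  have : IsNoetherian (f.left ⁻¹ᵁ U : Scheme.{u}) := {}
  have : LocallyOfFiniteType g := IsZariskiLocalAtTarget.restrict ‹_› _
  have : IsSeparated g := IsZariskiLocalAtTarget.restrict ‹_› _
  have : LocallyQuasiFinite g := IsZariskiLocalAtTarget.restrict ‹_› _
  have hval : ∀ x, (g x).1 = f.left x.1 := fun x => by
    show ((f.left ∣_ U) ≫ U.ι) x = _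
    rw [morphismRestrict_ι]; rfl
  obtain ⟨V, hV, hfin⟩ := exists_isFinite_restrict g ⟨η'.1, hηU⟩ fun x hx =>
    Subtype.ext ((hval x).trans (hmax x.1 (hval x ▸ hx.map U.ι.continuous)))
  refine ⟨U.ι ''ᵁ V, ⟨η'.1, ⟨⟨η'.1, hηU⟩, hV, rfl⟩, η'.2⟩, ?_⟩
  exact (MorphismProperty.arrow_mk_iso_iff @IsFinite (morphismRestrictRestrict f.left U V)).1 hfin

end Groth.Agent.GrpArtin.Spread
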