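import Groth.Agent.GrpArtin.Basic
import Groth.Agent.GrpArtin.SpreadFinite
import Groth.Agent.GrpScheme.IdComponent
import Groth.Agent.FpqcDesc.Props
import Mathlib

/-!
# Homomorphisms of group schemes over a field or an Artinian local ring
-/

set_option autoImplicit false
set_option backward.isDefEq.respectTransparency false
set_option synthInstance.maxHeartbeats 200000

universe u

open CategoryTheory MonoidalCategory CartesianMonoidalCategory MonObj GrpObj AlgebraicGeometry
  Limits TopologicalSpace

namespace Groth.Agent.GrpArtin.Descend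

open Groth.Agent Groth.Agent.GrpArtin

section General

variable {S S' : Scheme.{u}} (f : S' ⟶ S)

/-- Base change of a morphism. -/
noncomputable abbrev bcMap {H G : Over S} (a : H ⟶ G) : bc f H ⟶ bc f G := (Over.pullback f).map a

lemma isPullback_bcMap {H G : Over S} (a : H ⟶ G) :
    IsPullback (bcMap f a).left (proj f H) (proj f G) a.left := by
  refine (IsPullback.of_bot (v₂₁ := pullback.snd G.hom f) (v₂₂ := G.hom) (h₃₁ := f) ?_ ?_
    (IsPullback.of_hasPullback G.hom f)).flip
  · rw [show (bcMap f a).left ≫ pullback.snd G.hom f = pullback.snd H.hom f from Over.w (bcMap f a), Over.w a]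
    exact IsPullback.of_hasPullback H.hom f
  · simp [Over.pullback]

lemma proj_bcMap_apply {H G : Over S} (a : H ⟶ G) (x : (bc f H).left) :
    proj f G ((bcMap f a).left x) = a.left (proj f H x) := by
  rw [← Scheme.Hom.comp_apply, (isPullback_bcMap f a).w, Scheme.Hom.comp_apply]

lemma proj_unit {G : Over S} [GrpObj G] (p : S') :
    proj f G ((η[bc f G] : 𝟙_ (Over S') ⟶ bc f G).left p) = (η[G] : 𝟙_ (Over S) ⟶ G).left (f p) := by
  have h1 : down f (1 : 𝟙_ (Over S') ⟶ bc f G) = 1 := by
    have h2 := down_mul f (1 : 𝟙_ (Over S') ⟶ bc f G) 1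
    rw [_root_.mul_one] at h2
    exact left_eq_mul.mp h2
  have h3 := congrArg (fun m => m.left p) h1
  simp only [down_left, Hom.one_def, Over.comp_left] at h3
  rw [Scheme.Hom.comp_apply, Scheme.Hom.comp_apply, Scheme.Hom.comp_apply] at h3
  exact h3

end General

lemma isClosedImmersion_unit {K : Type u} [Field K] (G : Over (Spec (CommRingCat.of K))) [GrpObj G] :
    IsClosedImmersion η[G].left := by
  have := GrpScheme.IdComponent.isSeparated G
  have : IsClosedImmersion (η[G].left ≫ G.hom) := by
    rw [Over.w η[G]]; exact inferInstanceAs (IsClosedImmersion (𝟙 _))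
  exact IsClosedImmersion.of_comp η[G].left G.hom

section Field

variable {k : Type u} [Field k] {H G : Over (Spec (CommRingCat.of k))} [GrpObj H] [GrpObj G]
  [LocallyOfFiniteType H.hom] [LocallyOfFiniteType G.hom] (u : H ⟶ G) [IsMonHom u] [QuasiCompact u.left]

/-- The algebraic closure as a scheme over the field. -/
noncomputable abbrev clo (k : Type u) [Field k] :
    Spec (CommRingCat.of (AlgebraicClosure k)) ⟶ Spec (CommRingCat.of k) :=
  Spec.map (CommRingCat.ofHom (algebraMap k (AlgebraicClosure k)))

lemma fpqc_clo (k : Type u) [Field k] : FpqcDesc.FPQC (clo k) := by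
  refine ⟨⟨⟨fun p => ⟨IsLocalRing.closedPoint _, Subsingleton.elim (α := PrimeSpectrum k) _ _⟩⟩, ?_⟩, inferInstance⟩
  exact (HasRingHomProperty.Spec_iff (P := @Flat)).mpr
    ((RingHom.flat_algebraMap_iff).mpr inferInstance)

lemma fpqc_proj (G : Over (Spec (CommRingCat.of k))) : FpqcDesc.FPQC (proj (clo k) G) :=
  MorphismProperty.pullback_fst G.hom (clo k) (fpqc_clo k)

omit [GrpObj G] [LocallyOfFiniteType G.hom] in
lemma quasiCompact_bcMap {H : Over (Spec (CommRingCat.of k))} (u : H ⟶ G) [QuasiCompact u.left] :
    QuasiCompact (bcMap (clo k) u).left :=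
  MorphismProperty.of_isPullback (isPullback_bcMap (clo k) u).flip ‹QuasiCompact u.left›

omit [GrpObj G] in
lemma lft_bc : LocallyOfFiniteType (bc (clo k) G).hom :=
  inferInstanceAs (LocallyOfFiniteType (pullback.snd G.hom (clo k)))

/-- A quasi-compact monomorphism of groups locally of finite type over a field is a closed immersion. -/
theorem isClosedImmersion_of_mono [Mono u] : IsClosedImmersion u.left := by
  have := quasiCompact_bcMap u
  have := lft_bc (G := G)
  have := lft_bc (G := H)
  have : Mono u.left := inferInstance
  have : Mono (bcMap (clo k) u).left := MorphismProperty.of_isPullback (P := MorphismProperty.monomorphisms _) (isPullback_bcMap (clo k) u).flip ‹Mono u.left›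
  have h := Spread.isClosedImmersion_of_mono (bcMap (clo k) u)
  have := FpqcDesc.descendsAlong_isClosedImmersion.{u}
  exact MorphismProperty.of_isPullback_of_descendsAlong (P := @IsClosedImmersion) (isPullback_bcMap (clo k) u) (fpqc_proj G) h

/-- A homomorphism with open image is universally open. -/
theorem universallyOpen_of_isOpen_range (hR : IsOpen (Set.range u.left)) : UniversallyOpen u.left := by
  have := quasiCompact_bcMap u
  have := lft_bc (G := G)
  have := lft_bc (G := H)
  have hR' : IsOpen (Set.range (bcMap (clo k) u).left) := by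
    have e : Set.range (bcMap (clo k) u).left = proj (clo k) G ⁻¹' Set.range u.left := by
      rw [← Scheme.Pullback.range_fst, ← (isPullback_bcMap (clo k) u).isoPullback_hom_fst, Scheme.Hom.comp_base,
        TopCat.coe_comp, Set.range_comp,
        Set.range_eq_univ.mpr (isPullback_bcMap (clo k) u).isoPullback.hom.surjective, Set.image_univ]
    rw [e]
    exact hR.preimage (proj (clo k) G).continuous
  have h := Spread.universallyOpen_of_isOpen_range (bcMap (clo k) u) hR'
  exact MorphismProperty.of_isPullback_of_descendsAlong (P := @UniversallyOpen) (isPullback_bcMap (clo k) u) (fpqc_proj G) h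

/-- A homomorphism with discrete kernel is finite. -/
theorem isFinite_of_isDiscrete
    (h : _root_.IsDiscrete (u.left ⁻¹' {η[G].left (IsLocalRing.closedPoint k)})) : IsFinite u.left := by
  have := quasiCompact_bcMap u
  have := lft_bc (G := G)
  have := lft_bc (G := H)
  have := isClosedImmersion_unit G
  let e := η[G].left (IsLocalRing.closedPoint k)
  let iN := pullback.fst u.left η[G].left
  have hN : Set.range iN = u.left ⁻¹' {e} := by
    rw [Scheme.Pullback.range_fst]
    refine congrArg (u.left ⁻¹' ·) (Set.eq_singleton_iff_unique_mem.mpr ⟨⟨_, rfl⟩, ?_⟩)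
    rintro _ ⟨q, rfl⟩
    exact congrArg _ (Subsingleton.elim (α := PrimeSpectrum k) q (IsLocalRing.closedPoint k))
  have : LocallyOfFiniteType (iN ≫ H.hom) := inferInstance
  have : LocallyQuasiFinite (iN ≫ H.hom) := by
    refine locallyQuasiFinite_iff_isDiscrete_preimage_singleton.mpr fun x => ?_
    exact (h.preimage iN.continuous.continuousOn iN.isClosedEmbedding.injective).mono
      (fun z _ => (hN ▸ ⟨z, rfl⟩ : iN z ∈ u.left ⁻¹' {e}))
  let P' := pullback (proj (clo k) H) iN
  have hP : LocallyQuasiFinite (pullback.snd (iN ≫ H.hom) (clo k)) := inferInstance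
  have : LocallyQuasiFinite (pullback.fst (proj (clo k) H) iN ≫ (bc (clo k) H).hom) := by
    have sq := ((IsPullback.of_hasPullback (proj (clo k) H) iN).flip).paste_vert (IsPullback.of_hasPullback H.hom (clo k))
    rw [show pullback.fst (proj (clo k) H) iN ≫ (bc (clo k) H).hom =
      pullback.fst (proj (clo k) H) iN ≫ pullback.snd H.hom (clo k) from rfl, ← sq.isoPullback_hom_snd]
    infer_instance
  have hd : _root_.IsDiscrete (Set.range (pullback.fst (proj (clo k) H) iN)) := by
    have h1 : _root_.IsDiscrete (Set.univ : Set P') :=
      ((pullback.fst (proj (clo k) H) iN ≫ (bc (clo k) H).hom).isDiscrete_preimage_singleton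
        (IsLocalRing.closedPoint _)).mono fun z _ => Subsingleton.elim (α := PrimeSpectrum (AlgebraicClosure k)) _ _
    rw [← Set.image_univ]
    exact h1.image (pullback.fst (proj (clo k) H) iN).isClosedEmbedding.isEmbedding.isInducing
  have := Spread.locallyQuasiFinite_of_isDiscrete (bcMap (clo k) u) (hd.mono fun x hx => by
    rw [Scheme.Pullback.range_fst, Set.mem_preimage, hN, Set.mem_preimage, Set.mem_singleton_iff,
      ← proj_bcMap_apply, show (bcMap (clo k) u).left x = _ from hx, proj_unit]
    exact congrArg _ (Subsingleton.elim (α := PrimeSpectrum k) _ _))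
  have := GrpScheme.IdComponent.isSeparated (bc (clo k) H)
  have : IsSeparated ((bcMap (clo k) u).left ≫ (bc (clo k) G).hom) := by rw [Over.w]; infer_instance
  have : IsSeparated (bcMap (clo k) u).left := IsSeparated.of_comp _ (bc (clo k) G).hom
  have h := Spread.isFinite_of_locallyQuasiFinite (bcMap (clo k) u)
  have := FpqcDesc.descendsAlong_isFinite.{u}
  exact MorphismProperty.of_isPullback_of_descendsAlong (P := @IsFinite) (isPullback_bcMap (clo k) u) (fpqc_proj G) h

end Field

section Artin

variable {A : Type u} [CommRing A] [IsArtinianRing A] [IsLocalRing A] {H G : Over (Spec (CommRingCat.of A))}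
  [GrpObj H] [GrpObj G] (u : H ⟶ G) [IsMonHom u]

omit [IsMonHom u] [GrpObj H] [GrpObj G] in
lemma range_left : Set.range u.left = proj (res A) G '' Set.range (bcMap (res A) u).left := by
  rw [← Set.range_comp]
  refine Set.Subset.antisymm ?_ ?_
  · rintro _ ⟨x, rfl⟩
    obtain ⟨x₀, rfl⟩ := (isHomeomorph_proj H).surjective x
    exact ⟨x₀, proj_bcMap_apply _ u x₀⟩
  · rintro _ ⟨x, rfl⟩
    exact ⟨_, (proj_bcMap_apply _ u x).symm⟩

omit [IsMonHom u] in
lemma isSeparated (G : Over (Spec (CommRingCat.of A))) [GrpObj G] : IsSeparated G.hom := by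
  have : IsImmersion η[G].left := by
    have : IsImmersion (η[G].left ≫ G.hom) := by rw [Over.w η[G]]; exact inferInstanceAs (IsImmersion (𝟙 _))
    exact IsImmersion.of_comp η[G].left G.hom
  have : IsClosedImmersion η[G].left := IsClosedImmersion.of_isPreimmersion _ (by
    have := isClosedImmersion_unit (bc (res A) G)
    have e : Set.range η[G].left = proj (res A) G '' Set.range η[bc (res A) G].left := by
      rw [← Set.range_comp]
      refine Set.Subset.antisymm ?_ ?_
      · rintro _ ⟨p, rfl⟩
        obtain ⟨p₀, rfl⟩ := (surjective_res (A := A)).surj p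
        exact ⟨p₀, proj_unit _ p₀⟩
      · rintro _ ⟨p, rfl⟩
        exact ⟨_, (proj_unit _ p).symm⟩
    rw [e]
    exact (isHomeomorph_proj G).isClosedMap _ η[bc (res A) G].left.isClosedEmbedding.isClosed_range)
  exact ⟨GrpScheme.Basic.diagonal_mem @IsClosedImmersion ‹_›⟩

/-- A subgroup scheme over an Artinian local ring is closed. -/
theorem isClosedImmersion_of_isImmersion [IsImmersion u.left] : IsClosedImmersion u.left := by
  refine IsClosedImmersion.of_isPreimmersion _ ?_
  have : IsImmersion (bcMap (res A) u).left :=
    MorphismProperty.of_isPullback (isPullback_bcMap (res A) u).flip ‹IsImmersion u.left›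
  rw [range_left]
  exact (isHomeomorph_proj G).isClosedMap _
    (GrpScheme.Points.isClosed_range_of_isLocallyClosed (bcMap (res A) u) (bcMap (res A) u).left.isLocallyClosed_range)

variable [LocallyOfFiniteType H.hom] [LocallyOfFiniteType G.hom] [QuasiCompact u.left]

omit [GrpObj H] [GrpObj G] [IsMonHom u] [QuasiCompact u.left] in
lemma lft_left : LocallyOfFiniteType u.left := by
  have : LocallyOfFiniteType (u.left ≫ G.hom) := by rw [Over.w u]; infer_instance
  exact locallyOfFiniteType_of_comp u.left G.hom

omit [GrpObj H] [GrpObj G] [IsMonHom u] [QuasiCompact u.left] [LocallyOfFiniteType H.hom] in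
lemma lft_bc_res : LocallyOfFiniteType (bc (res A) G).hom :=
  inferInstanceAs (LocallyOfFiniteType (pullback.snd G.hom (res A)))

omit [GrpObj H] [GrpObj G] [IsMonHom u] [LocallyOfFiniteType H.hom] [LocallyOfFiniteType G.hom] in
lemma quasiCompact_bcMap_res : QuasiCompact (bcMap (res A) u).left :=
  MorphismProperty.of_isPullback (isPullback_bcMap (res A) u).flip ‹QuasiCompact u.left›

omit [GrpObj H] [GrpObj G] [IsMonHom u] [LocallyOfFiniteType H.hom] [LocallyOfFiniteType G.hom] [QuasiCompact u.left] in
lemma universallyClosed_of_bcMap [UniversallyClosed (bcMap (res A) u).left] : UniversallyClosed u.left := by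
  have : Surjective (proj (res A) H) := ⟨(isHomeomorph_proj H).surjective⟩
  have : IsClosedImmersion (proj (res A) G) := inferInstanceAs (IsClosedImmersion (pullback.fst G.hom (res A)))
  have : UniversallyClosed (proj (res A) H ≫ u.left) := by
    rw [← (isPullback_bcMap (res A) u).w]; infer_instance
  exact .of_comp_surjective (proj (res A) H) _

/-- A quasi-compact monomorphism of groups over an Artinian local ring is a closed immersion. -/
theorem isClosedImmersion_of_mono_artin [Mono u] : IsClosedImmersion u.left := by
  have := lft_left u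
  have := lft_bc_res (G := G)
  have := lft_bc_res (G := H)
  have := quasiCompact_bcMap_res u
  have : IsClosedImmersion (bcMap (res A) u).left := Descend.isClosedImmersion_of_mono (bcMap (res A) u)
  have := universallyClosed_of_bcMap u
  exact (IsClosedImmersion.iff_isProper_and_mono (f := u.left)).mpr ⟨⟨⟩, inferInstance⟩

/-- An open homomorphism over an Artinian local ring is universally open. -/
theorem universallyOpen_of_isOpenMap (hu : IsOpenMap u.left) : UniversallyOpen u.left := by
  have := lft_bc_res (G := G)
  have := lft_bc_res (G := H)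
  have := quasiCompact_bcMap_res u
  have hG := isHomeomorph_proj G
  have hR : IsOpen (Set.range (bcMap (res A) u).left) := by
    have h1 : proj (res A) G ⁻¹' Set.range u.left = Set.range (bcMap (res A) u).left := by
      rw [range_left, Set.preimage_image_eq _ hG.injective]
    rw [← h1]
    exact hu.isOpen_range.preimage (proj (res A) G).continuous
  have := Descend.universallyOpen_of_isOpen_range (bcMap (res A) u) hR
  have : Surjective (proj (res A) H) := ⟨(isHomeomorph_proj H).surjective⟩
  have : Surjective (proj (res A) G) := ⟨hG.surjective⟩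
  have : IsClosedImmersion (proj (res A) G) := inferInstanceAs (IsClosedImmersion (pullback.fst G.hom (res A)))
  have := Spread.universallyOpen_of_surjective_closedImmersion (proj (res A) G)
  have : UniversallyOpen (proj (res A) H ≫ u.left) := by
    rw [← (isPullback_bcMap (res A) u).w]; infer_instance
  exact Groth.Agent.Thick.Topo.universallyOpen_of_comp_surjective (proj (res A) H) _

/-- A homomorphism with discrete kernel over an Artinian local ring is finite. -/
theorem isFinite_of_isDiscrete_artin
    (h : _root_.IsDiscrete (u.left ⁻¹' {η[G].left (IsLocalRing.closedPoint A)})) : IsFinite u.left := by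
  have := lft_left u
  have := lft_bc_res (G := G)
  have := lft_bc_res (G := H)
  have := quasiCompact_bcMap_res u
  have hG := isHomeomorph_proj G
  have hH := isHomeomorph_proj H
  have : IsFinite (bcMap (res A) u).left := by
    refine Descend.isFinite_of_isDiscrete (bcMap (res A) u)
      ((h.preimage (proj (res A) H).continuous.continuousOn hH.injective).mono fun x hx => ?_)
    show u.left (proj (res A) H x) = _
    rw [← proj_bcMap_apply, show (bcMap (res A) u).left x = _ from hx, proj_unit]
    exact congrArg _ (IsLocalRing.comap_closedPoint (IsLocalRing.residue A))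
  have := universallyClosed_of_bcMap u
  have := isSeparated H
  have : IsSeparated (u.left ≫ G.hom) := by rw [Over.w]; infer_instance
  have : IsSeparated u.left := IsSeparated.of_comp u.left G.hom
  have : LocallyQuasiFinite u.left := locallyQuasiFinite_iff_isDiscrete_preimage_singleton.mpr fun g => by
    obtain ⟨g₀, rfl⟩ := hG.surjective g
    refine (((bcMap (res A) u).left.isDiscrete_preimage_singleton g₀).image hH.isEmbedding.isInducing).mono fun x hx => ?_
    obtain ⟨x₀, rfl⟩ := hH.surjective x
    refine ⟨x₀, hG.injective ?_, rfl⟩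
    rw [proj_bcMap_apply]
    exact hx
  have : IsProper u.left := ⟨⟩
  exact IsFinite.of_isProper_of_locallyQuasiFinite u.left

end Artin

end Groth.Agent.GrpArtin.Descend
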