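import Groth.Agent.GrpScheme.DenseOpen
import Mathlib

/-!
# Group schemes over a base with one point: passage to the residue field
-/

set_option autoImplicit false

universe u

open CategoryTheory AlgebraicGeometry Limits MonoidalCategory CartesianMonoidalCategory MonObj

namespace Groth.Agent.GrpArtin

section Change

set_option backward.isDefEq.respectTransparency false

variable {S S' : Scheme.{u}} (f : S' ⟶ S)

/-- Base change of an object. -/
noncomputable abbrev bc (G : Over S) : Over S' := (Over.pullback f).obj G

/-- The projection from the base change. -/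
noncomputable abbrev proj (G : Over S) : (bc f G).left ⟶ G.left := pullback.fst G.hom f

noncomputable instance grpObjBC (G : Over S) [GrpObj G] : GrpObj (bc f G) := Functor.grpObjObj

/-- An object of `Over S'` as an object of `Over S`. -/
noncomputable abbrev push (T : Over S') : Over S := (Over.map f).obj T

/-- The transpose of a point of the base change. -/
noncomputable def down {T : Over S'} {G : Over S} (a : T ⟶ bc f G) : push f T ⟶ G :=
  Over.homMk (a.left ≫ proj f G) (by
    show (a.left ≫ pullback.fst G.hom f) ≫ G.hom = T.hom ≫ f
    rw [Category.assoc, pullback.condition, ← Category.assoc]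
    exact congrArg (· ≫ f) (Over.w a))

lemma down_left {T : Over S'} {G : Over S} (a : T ⟶ bc f G) : (down f a).left = a.left ≫ proj f G := rfl

lemma unit_comp_map {T : Over S'} {G : Over S} (a : T ⟶ bc f G) :
    (Over.mapPullbackAdj f).unit.app T ≫ (Over.pullback f).map (down f a) = a := by
  refine Over.OverMorphism.ext (pullback.hom_ext ?_ ?_)
  · simp [down]
    exact Category.id_comp _
  · simpa [Over.mapPullbackAdj] using (Over.w a).symm

/-- Transposition is multiplicative. -/
theorem down_mul {T : Over S'} {G : Over S} [GrpObj G] (a b : T ⟶ bc f G) :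
    down f (a * b) = down f a * down f b := by
  have h : (Over.mapPullbackAdj f).unit.app T ≫ (Over.pullback f).map (down f a * down f b) = a * b := by
    rw [Functor.map_mul, MonObj.comp_mul, unit_comp_map, unit_comp_map]
  refine Over.OverMorphism.ext ?_
  rw [down_left, ← h]
  simp
  exact (Category.id_comp _).symm

end Change

variable {A : Type u} [CommRing A] [IsLocalRing A]

/-- The closed point as a scheme over `Spec A`. -/
noncomputable abbrev res (A : Type u) [CommRing A] [IsLocalRing A] :
    Spec (CommRingCat.of (IsLocalRing.ResidueField A)) ⟶ Spec (CommRingCat.of A) :=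
  Spec.map (CommRingCat.ofHom (IsLocalRing.residue A))

instance : IsClosedImmersion (res A) :=
  IsClosedImmersion.spec_of_surjective _ IsLocalRing.residue_surjective

lemma surjective_res [IsArtinianRing A] : Surjective (res A) := by
  refine ⟨fun p => ⟨IsLocalRing.closedPoint _, ?_⟩⟩
  exact PrimeSpectrum.ext ((IsLocalRing.eq_maximalIdeal (IsArtinianRing.isPrime_iff_isMaximal _ |>.mp
    (PrimeSpectrum.comap (IsLocalRing.residue A) (IsLocalRing.closedPoint _)).2)).trans
    (IsLocalRing.eq_maximalIdeal (IsArtinianRing.isPrime_iff_isMaximal _ |>.mp p.2)).symm)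

/-- Over an Artinian local ring the reduction is a homeomorphism. -/
theorem isHomeomorph_proj [IsArtinianRing A] (G : Over (Spec (CommRingCat.of A))) :
    IsHomeomorph (proj (res A) G) := by
  have : Surjective (res A) := surjective_res
  have : Surjective (proj (res A) G) := inferInstanceAs (Surjective (pullback.fst G.hom (res A)))
  have : IsClosedImmersion (proj (res A) G) := inferInstanceAs (IsClosedImmersion (pullback.fst G.hom (res A)))
  exact isHomeomorph_iff_isEmbedding_surjective.mpr
    ⟨(proj (res A) G).isClosedEmbedding.isEmbedding, (proj (res A) G).surjective⟩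

/-- In a group scheme over an Artinian local ring the product of two dense opens is everything. -/
theorem exists_mul [IsArtinianRing A] {G : Over (Spec (CommRingCat.of A))} [GrpObj G] (U V : G.left.Opens)
    (hU : Dense (U : Set G.left)) (hV : Dense (V : Set G.left)) (x : G.left) :
    ∃ z : (G ⊗ G).left, (fst G G).left z ∈ U ∧ (snd G G).left z ∈ V ∧ μ[G].left z = x := by
  let f := res A
  have hp := isHomeomorph_proj G
  obtain ⟨x₀, rfl⟩ := hp.surjective x
  obtain ⟨p, hpU, hpV, hpx⟩ := GrpScheme.DenseOpen.exists_mul (G := bc f G) (proj f G ⁻¹ᵁ U) (proj f G ⁻¹ᵁ V)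
    (hU.preimage hp.isOpenMap) (hV.preimage hp.isOpenMap) x₀
  let a := down f (fst (bc f G) (bc f G))
  let b := down f (snd (bc f G) (bc f G))
  let z := lift a b
  refine ⟨z.left p, ?_, ?_, ?_⟩
  · rw [← Scheme.Hom.comp_apply, ← Over.comp_left, lift_fst, down_left, Scheme.Hom.comp_apply]
    exact hpU
  · rw [← Scheme.Hom.comp_apply, ← Over.comp_left, lift_snd, down_left, Scheme.Hom.comp_apply]
    exact hpV
  · rw [← Scheme.Hom.comp_apply, ← Over.comp_left, ← Hom.mul_def, ← down_mul, down_left, Scheme.Hom.comp_apply,
      Hom.mul_def, lift_fst_snd, Category.id_comp]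
    exact congrArg (proj f G) hpx

end Groth.Agent.GrpArtin
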