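import Groth.Agent.GrpArtin.Descend
import Mathlib

/-!
# Open homomorphisms of group schemes are universally open
-/

set_option autoImplicit false
set_option backward.isDefEq.respectTransparency false
set_option synthInstance.maxHeartbeats 200000

universe u

open CategoryTheory MonoidalCategory CartesianMonoidalCategory MonObj GrpObj AlgebraicGeometry
  Limits TopologicalSpace

namespace Groth.Agent.GrpArtin.OpenHom

open Groth.Agent Groth.Agent.GrpArtin

/-- Over an algebraically closed field universal openness on one nonempty open spreads by translations. -/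
theorem universallyOpen_of_exists_open {K : Type u} [Field K] [IsAlgClosed K]
    {P Q : Over (Spec (CommRingCat.of K))} [GrpObj P] [GrpObj Q] [LocallyOfFiniteType P.hom]
    (f : P ⟶ Q) [IsMonHom f]
    (h : ∃ U : P.left.Opens, (U : Set P.left).Nonempty ∧ UniversallyOpen (U.ι ≫ f.left)) :
    UniversallyOpen f.left := by
  have hJP : JacobsonSpace P.left := LocallyOfFiniteType.jacobsonSpace P.hom
  obtain ⟨U, hne, hU⟩ := h
  obtain ⟨w, hwU, hwc⟩ := nonempty_inter_closedPoints hne U.isOpen.isLocallyClosed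
  let rp : ∀ x : P.left, IsClosed ({x} : Set P.left) → (𝟙_ _ ⟶ P) := fun x hx =>
    Over.homMk _ ((pointEquivClosedPoint P.hom).symm ⟨x, hx⟩).2
  have hrp : ∀ x hx, (rp x hx).left (IsLocalRing.closedPoint K) = x := fun x hx =>
    pointOfClosedPoint_apply P.hom x hx _
  refine IsZariskiLocalAtSource.of_iSup_eq_top (P := @UniversallyOpen)
    (fun V : {V : P.left.Opens // UniversallyOpen (V.ι ≫ f.left)} => V.1) ?_ fun V => V.2
  by_contra hO
  obtain ⟨z, hzO, hzc⟩ := nonempty_inter_closedPoints
    (Z := ((⨆ V : {V : P.left.Opens // UniversallyOpen (V.ι ≫ f.left)}, V.1 : P.left.Opens) : Set P.left)ᶜ)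
    (Set.nonempty_compl.2 fun h => hO (Opens.ext h)) (Opens.isOpen _).isClosed_compl.isLocallyClosed
  refine hzO ?_
  let c := rp w hwc * (rp z hzc)⁻¹
  let α : P ≅ P := GrpScheme.Basic.translate c
  let β : Q ≅ Q := GrpScheme.Basic.translate (c ≫ f)
  have hαβ : α.hom ≫ f = f ≫ β.hom := by
    simp only [α, β, GrpScheme.Basic.translate, MonObj.mul_comp, MonObj.comp_mul, Category.id_comp,
      Category.comp_id, Category.assoc, comp_toUnit_assoc]
  have := GrpScheme.Basic.isIso_left α.hom
  have := GrpScheme.Basic.isIso_left β.hom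
  have hαz : α.hom.left z = w := by
    have e : rp z hzc ≫ α.hom = rp w hwc := by
      simp only [α, GrpScheme.Basic.translate, MonObj.comp_mul, comp_toUnit_assoc, Category.comp_id]
      rw [toUnit_unique (toUnit _) (𝟙 _), Category.id_comp]
      simp only [c, inv_mul_cancel_right]
    have h2 := congrArg (fun m => m.left (IsLocalRing.closedPoint K)) e
    simp only [Over.comp_left] at h2
    rwa [Scheme.Hom.comp_apply, hrp, hrp] at h2
  refine Opens.mem_iSup.2 ⟨⟨α.hom.left ⁻¹ᵁ U, ?_⟩, show α.hom.left z ∈ U from hαz ▸ hwU⟩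
  have h1 : UniversallyOpen (((α.hom.left ⁻¹ᵁ U).ι ≫ f.left) ≫ β.hom.left) := by
    rw [Category.assoc, ← Over.comp_left, ← hαβ, Over.comp_left, ← Category.assoc, ← morphismRestrict_ι,
      Category.assoc]
    exact MorphismProperty.comp_mem _ _ _ inferInstance hU
  exact (MorphismProperty.cancel_right_of_respectsIso @UniversallyOpen _ _).1 h1

/-- An open map of finite type to a locally Noetherian scheme is universally open somewhere. -/
theorem exists_open_universallyOpen {X Y : Scheme.{u}} (f : X ⟶ Y) [LocallyOfFiniteType f]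
    [IsLocallyNoetherian Y] [Nonempty X] (hf : IsOpenMap f) :
    ∃ U : X.Opens, (U : Set X).Nonempty ∧ UniversallyOpen (U.ι ≫ f) := by
  obtain ⟨x⟩ := ‹Nonempty X›
  have : IsLocallyNoetherian X := LocallyOfFiniteType.isLocallyNoetherian f
  obtain ⟨U₀, hU₀, hxU₀, -⟩ := exists_isAffineOpen_mem_and_subset (X := X) (x := x) (U := ⊤) trivial
  obtain ⟨V₂, hV₂, hxV₂, hV₂U⟩ := exists_isAffineOpen_mem_and_subset (X := Y) (x := f x)
    (U := ⟨f '' U₀, hf _ U₀.isOpen⟩) ⟨x, hxU₀, rfl⟩
  let U₁ : X.Opens := U₀ ⊓ f ⁻¹ᵁ V₂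
  let g : (U₁ : Scheme.{u}) ⟶ V₂ := f.resLE V₂ U₁ inf_le_right
  have hg : g ≫ V₂.ι = U₁.ι ≫ f := Scheme.Hom.resLE_comp_ι _ _
  have : IsAffine (V₂ : Scheme.{u}) := hV₂
  have : IsAffine (U₀ : Scheme.{u}) := hU₀
  have : IsNoetherian (U₀ : Scheme.{u}) := {}
  have : CompactSpace ↥(U₁ : Scheme.{u}) :=
    isCompact_iff_compactSpace.mp (by
      have hc := NoetherianSpace.isCompact (U₀.ι ⁻¹' (U₁ : Set X))
      have := hc.image U₀.ι.continuous
      rwa [Set.image_preimage_eq_of_subset (by rw [Scheme.Opens.range_ι]; exact inf_le_left)] at this)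
  have : QuasiCompact g := (quasiCompact_iff_compactSpace g).mpr inferInstance
  have : LocallyOfFiniteType g := by
    have : LocallyOfFiniteType (g ≫ V₂.ι) := by rw [hg]; infer_instance
    exact locallyOfFiniteType_of_comp g V₂.ι
  have hgs : Surjective g := ⟨fun y => by
    obtain ⟨a, ha, hay⟩ := hV₂U y.2
    refine ⟨⟨a, ha, show f a ∈ V₂ from hay ▸ y.2⟩, Subtype.ext (Eq.trans ?_ hay)⟩
    show (g ≫ V₂.ι) _ = f a
    rw [hg]; rfl⟩
  let Z : Closeds V₂ := ⊤
  let I := (Scheme.IdealSheafData.vanishingIdeal Z).subscheme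
  let ιI : I ⟶ V₂ := (Scheme.IdealSheafData.vanishingIdeal Z).subschemeι
  have hrI : Set.range ιI = Set.univ :=
    (Scheme.IdealSheafData.range_subschemeι _).trans
      (Scheme.IdealSheafData.coe_support_vanishingIdeal _)
  have : Surjective ιI := ⟨Set.range_eq_univ.mp hrI⟩
  have : IsReduced I := RedSub.isReduced_vanishingIdeal Z
  let gI := pullback.snd g ιI
  have hne : ((⊤ : I.Opens) : Set I).Nonempty := by
    obtain ⟨y, -⟩ := ιI.surjective ⟨f x, hxV₂⟩
    exact ⟨y, trivial⟩
  obtain ⟨W, -, hW, hflat, hlfp⟩ := FlatMisc.GenericFlat.exists_open gI ⊤ hne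
  obtain ⟨V, hV, e⟩ := ιI.isClosedEmbedding.isInducing.isOpen_iff.1 W.2
  let V' : (V₂ : Scheme.{u}).Opens := ⟨V, hV⟩
  have hVW : ιI ⁻¹ᵁ V' = W := Opens.ext e
  have h1 : UniversallyOpen ((pullback.fst g ιI ≫ g) ∣_ V') := by
    have e : gI ≫ ιI = pullback.fst g ιI ≫ g := pullback.condition.symm
    have : UniversallyOpen ((gI ≫ ιI) ∣_ V') := by
      rw [morphismRestrict_comp]
      have : IsClosedImmersion (ιI ∣_ V') := IsZariskiLocalAtTarget.restrict (inferInstance : IsClosedImmersion ιI) _
      have : Surjective (ιI ∣_ V') := IsZariskiLocalAtTarget.restrict ‹Surjective ιI› _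
      have h2 := Spread.universallyOpen_of_surjective_closedImmersion (ιI ∣_ V')
      have h3 : UniversallyOpen (gI ∣_ ιI ⁻¹ᵁ V') := by
        rw [hVW]
        infer_instance
      exact MorphismProperty.comp_mem _ _ _ h3 h2
    exact e ▸ this
  rw [morphismRestrict_comp] at h1
  have : Surjective (pullback.fst g ιI) := inferInstance
  have : Surjective (pullback.fst g ιI ∣_ g ⁻¹ᵁ V') := IsZariskiLocalAtTarget.restrict ‹Surjective (pullback.fst g ιI)› _
  have h4 := Groth.Agent.Thick.Topo.universallyOpen_of_comp_surjective (pullback.fst g ιI ∣_ g ⁻¹ᵁ V') (g ∣_ V')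
  refine ⟨U₁.ι ''ᵁ (g ⁻¹ᵁ V'), ?_, ?_⟩
  · obtain ⟨y, hy⟩ := hW
    obtain ⟨a, ha⟩ := hgs.surj (ιI y)
    exact ⟨_, a, show g a ∈ V' from ha ▸ (show y ∈ ιI ⁻¹ᵁ V' from hVW ▸ hy), rfl⟩
  · have h5 : UniversallyOpen ((g ⁻¹ᵁ V').ι ≫ U₁.ι ≫ f) := by
      rw [← hg, ← Category.assoc, ← morphismRestrict_ι]
      infer_instance
    rw [← (MorphismProperty.cancel_left_of_respectsIso @UniversallyOpen ((U₁.ι.isoImage (g ⁻¹ᵁ V')).hom) _)]
    rw [Scheme.Hom.isoImage_hom_ι_assoc]
    exact h5

variable {A : Type u} [CommRing A] [IsArtinianRing A] [IsLocalRing A]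

/-- An open homomorphism of groups over a field is universally open. -/
theorem universallyOpen_of_isOpenMap_field {k : Type u} [Field k] {H G : Over (Spec (CommRingCat.of k))}
    [GrpObj H] [GrpObj G] [LocallyOfFiniteType H.hom] [LocallyOfFiniteType G.hom] (u : H ⟶ G) [IsMonHom u]
    (hu : IsOpenMap u.left) : UniversallyOpen u.left := by
  have : IsLocallyNoetherian G.left := LocallyOfFiniteType.isLocallyNoetherian G.hom
  have : LocallyOfFiniteType u.left := by
    have : LocallyOfFiniteType (u.left ≫ G.hom) := by rw [Over.w u]; infer_instance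
    exact locallyOfFiniteType_of_comp u.left G.hom
  have : Nonempty H.left := ⟨η[H].left (IsLocalRing.closedPoint k)⟩
  obtain ⟨U, hne, hU⟩ := exists_open_universallyOpen u.left hu
  have := Descend.lft_bc (G := H)
  have := Descend.lft_bc (G := G)
  let p := proj (Descend.clo k) H
  have hp := Descend.fpqc_proj H
  have h := universallyOpen_of_exists_open (Descend.bcMap (Descend.clo k) u)
    ⟨p ⁻¹ᵁ U, by
      obtain ⟨y, hy⟩ := hne
      obtain ⟨z, rfl⟩ := hp.1.1.surj y
      exact ⟨z, hy⟩,
    MorphismProperty.of_isPullback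
      ((isPullback_morphismRestrict p U).paste_vert (Descend.isPullback_bcMap (Descend.clo k) u).flip) hU⟩
  exact MorphismProperty.of_isPullback_of_descendsAlong (P := @UniversallyOpen)
    (Descend.isPullback_bcMap (Descend.clo k) u) (Descend.fpqc_proj G) h

/-- An open homomorphism of groups over an Artinian local ring is universally open. -/
theorem universallyOpen_of_isOpenMap {H G : Over (Spec (CommRingCat.of A))} [GrpObj H] [GrpObj G]
    [LocallyOfFiniteType H.hom] [LocallyOfFiniteType G.hom] (u : H ⟶ G) [IsMonHom u]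
    (hu : IsOpenMap u.left) : UniversallyOpen u.left := by
  have := Descend.lft_bc_res (G := G)
  have := Descend.lft_bc_res (G := H)
  have hG := isHomeomorph_proj G
  have hH := isHomeomorph_proj H
  have hu' : IsOpenMap (Descend.bcMap (res A) u).left := fun O hO => by
    have e : (Descend.bcMap (res A) u).left '' O = proj (res A) G ⁻¹' (u.left '' (proj (res A) H '' O)) := by
      rw [← Set.image_comp, show u.left ∘ proj (res A) H = proj (res A) G ∘ (Descend.bcMap (res A) u).left from
        funext fun x => (Descend.proj_bcMap_apply _ u x).symm, Set.image_comp,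
        Set.preimage_image_eq _ hG.injective]
    rw [e]
    exact (hu _ (hH.isOpenMap _ hO)).preimage (proj (res A) G).continuous
  have := universallyOpen_of_isOpenMap_field (Descend.bcMap (res A) u) hu'
  have : Surjective (proj (res A) H) := ⟨hH.surjective⟩
  have : Surjective (proj (res A) G) := ⟨hG.surjective⟩
  have : IsClosedImmersion (proj (res A) G) := inferInstanceAs (IsClosedImmersion (pullback.fst G.hom (res A)))
  have := Spread.universallyOpen_of_surjective_closedImmersion (proj (res A) G)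
  have : UniversallyOpen (proj (res A) H ≫ u.left) := by
    rw [← (Descend.isPullback_bcMap (res A) u).w]; infer_instance
  exact Groth.Agent.Thick.Topo.universallyOpen_of_comp_surjective (proj (res A) H) _

end Groth.Agent.GrpArtin.OpenHom
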