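import Groth.Agent.GrpScheme.AffineHom
import Groth.Agent.GrpScheme.Dimension
import Groth.Agent.Thick.Topo
import Mathlib

/-!
# Spreading properties of homomorphisms by translations
-/

set_option autoImplicit false
set_option backward.isDefEq.respectTransparency false

universe u

open CategoryTheory MonoidalCategory CartesianMonoidalCategory MonObj GrpObj AlgebraicGeometry
  Limits TopologicalSpace

namespace Groth.Agent.GrpArtin.Spread

open Groth.Agent

variable {K : Type u} [Field K] [IsAlgClosed K] {P Q : Over (Spec (CommRingCat.of K))} [GrpObj P] [GrpObj Q]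
  [LocallyOfFiniteType P.hom] [LocallyOfFiniteType Q.hom] (f : P ⟶ Q) [IsMonHom f] [QuasiCompact f.left]

omit [IsAlgClosed K] [GrpObj P] [GrpObj Q] [IsMonHom f] [QuasiCompact f.left] [LocallyOfFiniteType Q.hom] in
lemma lft_left : LocallyOfFiniteType f.left := by
  have : LocallyOfFiniteType (f.left ≫ Q.hom) := by rw [Over.w f]; infer_instance
  exact locallyOfFiniteType_of_comp f.left Q.hom

/-- A property local on the target that holds over an open meeting the image holds everywhere. -/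
theorem of_exists_open (Φ : MorphismProperty Scheme.{u}) [IsZariskiLocalAtTarget Φ]
    (h0 : ∀ ⦃X Y : Scheme.{u}⦄ (g : X ⟶ Y), IsEmpty X → Φ g)
    (h : ∃ V₀ : Q.left.Opens, ((V₀ : Set Q.left) ∩ Set.range f.left).Nonempty ∧ Φ (f.left ∣_ V₀)) :
    Φ f.left := by
  have hJP : JacobsonSpace P.left := LocallyOfFiniteType.jacobsonSpace P.hom
  have hJQ : JacobsonSpace Q.left := LocallyOfFiniteType.jacobsonSpace Q.hom
  have hR : IsClosed (Set.range f.left) := GrpScheme.ClosedImage.isClosed_range f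
  obtain ⟨V₀, hne, hV₀⟩ := h
  obtain ⟨w, ⟨hwV, hwR⟩, hwc⟩ := nonempty_inter_closedPoints hne (V₀.2.isLocallyClosed.inter hR.isLocallyClosed)
  have hlift : ∀ z : Q.left, IsClosed ({z} : Set Q.left) → z ∈ Set.range f.left →
      ∃ p : 𝟙_ _ ⟶ P, f.left (p.left (IsLocalRing.closedPoint K)) = z := by
    intro z hz hzr
    obtain ⟨x, hx, hxc⟩ := nonempty_inter_closedPoints
      (Z := f.left ⁻¹' {z}) (by obtain ⟨x, hx⟩ := hzr; exact ⟨x, hx⟩)
      (hz.preimage f.left.continuous).isLocallyClosed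
    let p : 𝟙_ _ ⟶ P := Over.homMk _ ((pointEquivClosedPoint P.hom).symm ⟨x, hxc⟩).2
    refine ⟨p, ?_⟩
    rw [show p.left (IsLocalRing.closedPoint K) = x from pointOfClosedPoint_apply P.hom x hxc _]
    exact hx
  obtain ⟨q, hq⟩ := hlift w hwc hwR
  refine IsZariskiLocalAtTarget.of_iSup_eq_top (P := Φ)
    (fun V : {V : Q.left.Opens // Φ (f.left ∣_ V)} => V.1) ?_ fun V => V.2
  by_contra hO
  obtain ⟨z, hzO, hzc⟩ := nonempty_inter_closedPoints
    (Z := ((⨆ V : {V : Q.left.Opens // Φ (f.left ∣_ V)}, V.1 : Q.left.Opens) : Set Q.left)ᶜ)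
    (Set.nonempty_compl.2 fun h => hO (Opens.ext h)) (Opens.isOpen _).isClosed_compl.isLocallyClosed
  refine hzO ?_
  suffices ∃ V, Φ (f.left ∣_ V) ∧ z ∈ V by
    obtain ⟨V, hV, hzV⟩ := this
    exact Opens.mem_iSup.2 ⟨⟨V, hV⟩, hzV⟩
  by_cases hzr : z ∈ Set.range f.left
  · obtain ⟨p, hp⟩ := hlift z hzc hzr
    let α : P ≅ P := GrpScheme.Basic.translate (q * p⁻¹)
    let β : Q ≅ Q := GrpScheme.Basic.translate ((q * p⁻¹) ≫ f)
    have hαβ : α.hom ≫ f = f ≫ β.hom := by
      simp only [α, β, GrpScheme.Basic.translate, MonObj.mul_comp, MonObj.comp_mul, Category.id_comp,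
        Category.comp_id, Category.assoc, comp_toUnit_assoc]
    have := GrpScheme.Basic.isIso_left α.hom
    have := GrpScheme.Basic.isIso_left β.hom
    refine ⟨β.hom.left ⁻¹ᵁ V₀, ?_, ?_⟩
    · have h1 : Φ ((α.hom.left ≫ f.left) ∣_ V₀) := by
        rw [morphismRestrict_comp]
        exact (Φ.cancel_left_of_respectsIso _ _).2 hV₀
      have h2 : Φ ((f.left ≫ β.hom.left) ∣_ V₀) := by
        have e : α.hom.left ≫ f.left = f.left ≫ β.hom.left := congrArg (fun m => m.left) hαβ
        exact e ▸ h1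
      rw [morphismRestrict_comp] at h2
      exact (Φ.cancel_right_of_respectsIso _ _).1 h2
    · show β.hom.left z ∈ V₀
      rw [← hp]
      show (p ≫ f ≫ β.hom).left (IsLocalRing.closedPoint K) ∈ V₀
      have : p ≫ f ≫ β.hom = q ≫ f := by
        rw [← hαβ, ← Category.assoc]
        congr 1
        simp only [α, GrpScheme.Basic.translate, MonObj.comp_mul, comp_toUnit_assoc, Category.comp_id]
        rw [toUnit_unique (toUnit _) (𝟙 _), Category.id_comp]
        simp only [Category.id_comp, inv_mul_cancel_right]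
      rw [this]
      show f.left (q.left (IsLocalRing.closedPoint K)) ∈ V₀
      rw [hq]
      exact hwV
  · let V : Q.left.Opens := ⟨(Set.range f.left)ᶜ, hR.isOpen_compl⟩
    exact ⟨V, h0 _ ⟨fun x => x.2 ⟨x.1, rfl⟩⟩, hzr⟩

/-- Over a nonempty open of the reduced image, the homomorphism is flat and of finite presentation. -/
theorem exists_generic :
    ∃ (I : Scheme.{u}) (ιI : I ⟶ Q.left) (V₀ : Q.left.Opens), IsClosedImmersion ιI ∧ Set.range ιI = Set.range f.left ∧
      ((V₀ : Set Q.left) ∩ Set.range f.left).Nonempty ∧ Surjective (pullback.fst f.left ιI) ∧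
      Surjective (pullback.snd f.left ιI ∣_ ιI ⁻¹ᵁ V₀) ∧ Flat (pullback.snd f.left ιI ∣_ ιI ⁻¹ᵁ V₀) ∧
      LocallyOfFinitePresentation (pullback.snd f.left ιI ∣_ ιI ⁻¹ᵁ V₀) := by
  have := lft_left f
  let Z : Closeds Q.left := ⟨Set.range f.left, GrpScheme.ClosedImage.isClosed_range f⟩
  let I := (Scheme.IdealSheafData.vanishingIdeal Z).subscheme
  let ιI : I ⟶ Q.left := (Scheme.IdealSheafData.vanishingIdeal Z).subschemeι
  have hrI : Set.range ιI = Set.range f.left :=
    (Scheme.IdealSheafData.range_subschemeι _).trans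
      (Scheme.IdealSheafData.coe_support_vanishingIdeal _)
  have : IsReduced I := RedSub.isReduced_vanishingIdeal Z
  let fI := pullback.snd f.left ιI
  have hpI : Surjective (pullback.fst f.left ιI) := ⟨fun x => by
    obtain ⟨y, hy⟩ : f.left x ∈ Set.range ιI := hrI ▸ ⟨x, rfl⟩
    obtain ⟨z, hz, -⟩ := Scheme.Pullback.exists_preimage_pullback (f := f.left) (g := ιI) x y hy.symm
    exact ⟨z, hz⟩⟩
  have hfI : Surjective fI := ⟨fun y => by
    obtain ⟨x, hx⟩ : ιI y ∈ Set.range f.left := hrI ▸ ⟨y, rfl⟩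
    obtain ⟨z, -, hz⟩ := Scheme.Pullback.exists_preimage_pullback (f := f.left) (g := ιI) x y hx
    exact ⟨z, hz⟩⟩
  have hne : ((⊤ : I.Opens) : Set I).Nonempty := by
    obtain ⟨y, -⟩ : η[Q].left (IsLocalRing.closedPoint K) ∈ Set.range ιI :=
      hrI ▸ ⟨η[P].left (IsLocalRing.closedPoint K), by
        show (η[P] ≫ f).left (IsLocalRing.closedPoint K) = _
        rw [IsMonHom.one_hom]⟩
    exact ⟨y, trivial⟩
  obtain ⟨W, -, hW, hflat, hlfp⟩ := FlatMisc.GenericFlat.exists_open fI ⊤ hne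
  obtain ⟨V, hV, e⟩ := ιI.isClosedEmbedding.isInducing.isOpen_iff.1 W.2
  have hVW : ιI ⁻¹ᵁ ⟨V, hV⟩ = W := Opens.ext e
  obtain ⟨y, hy⟩ := hW
  refine ⟨I, ιI, ⟨V, hV⟩, inferInstance, hrI, ⟨ιI y, ?_, hrI ▸ ⟨y, rfl⟩⟩, hpI, ?_⟩
  · rw [← hVW] at hy; exact hy
  · rw [hVW]
    exact ⟨IsZariskiLocalAtTarget.restrict hfI _, hflat, hlfp⟩

/-- A quasi-compact monomorphism of groups is a closed immersion. -/
theorem isClosedImmersion_of_mono [Mono f.left] : IsClosedImmersion f.left := by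
  have := lft_left f
  refine of_exists_open f @IsClosedImmersion (fun X Y g h => inferInstance) ?_
  obtain ⟨I, ιI, V₀, _, -, hne, hp, hs, hflat, -⟩ := exists_generic f
  refine ⟨V₀, hne, ?_⟩
  let fI := pullback.snd f.left ιI
  have : Mono (fI ∣_ ιI ⁻¹ᵁ V₀) := by
    have : Mono ((fI ∣_ ιI ⁻¹ᵁ V₀) ≫ (ιI ⁻¹ᵁ V₀).ι) := by
      rw [morphismRestrict_ι]; infer_instance
    exact mono_of_mono _ (ιI ⁻¹ᵁ V₀).ι
  have : IsIso (fI ∣_ ιI ⁻¹ᵁ V₀) := Flat.isIso_of_surjective_of_mono _
  have h1 : IsClosedImmersion ((pullback.fst f.left ιI ≫ f.left) ∣_ V₀) := by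
    have e : fI ≫ ιI = pullback.fst f.left ιI ≫ f.left := pullback.condition.symm
    have : IsClosedImmersion ((fI ≫ ιI) ∣_ V₀) := by
      rw [morphismRestrict_comp]
      have : IsClosedImmersion (ιI ∣_ V₀) := IsZariskiLocalAtTarget.restrict ‹_› _
      infer_instance
    exact e ▸ this
  rw [morphismRestrict_comp] at h1
  have : Surjective (pullback.fst f.left ιI ∣_ f.left ⁻¹ᵁ V₀) := IsZariskiLocalAtTarget.restrict hp _
  have : UniversallyClosed (f.left ∣_ V₀) := .of_comp_surjective (pullback.fst f.left ιI ∣_ f.left ⁻¹ᵁ V₀) _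
  have : Mono (f.left ∣_ V₀) := by
    have : Mono ((f.left ∣_ V₀) ≫ V₀.ι) := by rw [morphismRestrict_ι]; infer_instance
    exact mono_of_mono _ V₀.ι
  have : LocallyOfFiniteType (f.left ∣_ V₀) := IsZariskiLocalAtTarget.restrict ‹_› _
  exact (IsClosedImmersion.iff_isProper_and_mono (f := f.left ∣_ V₀)).mpr ⟨⟨⟩, inferInstance⟩

/-- A surjective closed immersion is universally open. -/
lemma universallyOpen_of_surjective_closedImmersion {X Y : Scheme.{u}} (g : X ⟶ Y) [IsClosedImmersion g]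
    [Surjective g] : UniversallyOpen g := by
  constructor
  intro X' Y' i₁ i₂ g' H
  have h1 : IsClosedImmersion g' := MorphismProperty.of_isPullback H.flip ‹IsClosedImmersion g›
  have h2 : Surjective g' := MorphismProperty.of_isPullback H.flip ‹Surjective g›
  exact (isHomeomorph_iff_isEmbedding_surjective.mpr ⟨g'.isClosedEmbedding.isEmbedding, g'.surjective⟩).isOpenMap

/-- A homomorphism with open image is universally open. -/
theorem universallyOpen_of_isOpen_range (hR : IsOpen (Set.range f.left)) : UniversallyOpen f.left := by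
  refine of_exists_open f @UniversallyOpen (fun X Y g h => inferInstance) ?_
  obtain ⟨I, ιI, V₁, _, hrI, hne, hp, hs, hflat, hlfp⟩ := exists_generic f
  let V₀ : Q.left.Opens := V₁ ⊓ ⟨Set.range f.left, hR⟩
  refine ⟨V₀, ?_, ?_⟩
  · obtain ⟨w, hw1, hw2⟩ := hne
    exact ⟨w, ⟨hw1, hw2⟩, hw2⟩
  let fI := pullback.snd f.left ιI
  have hle : ιI ⁻¹ᵁ V₀ = ιI ⁻¹ᵁ V₁ := by
    refine Opens.ext (Set.ext fun y => ⟨fun h => h.1, fun h => ⟨h, ?_⟩⟩)
    show ιI y ∈ Set.range f.left
    rw [← hrI]; exact ⟨y, rfl⟩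
  have h1 : UniversallyOpen ((pullback.fst f.left ιI ≫ f.left) ∣_ V₀) := by
    have e : fI ≫ ιI = pullback.fst f.left ιI ≫ f.left := pullback.condition.symm
    have : UniversallyOpen ((fI ≫ ιI) ∣_ V₀) := by
      rw [morphismRestrict_comp]
      have : Surjective (ιI ∣_ V₀) := ⟨fun y => by
        obtain ⟨x, hx⟩ : y.1 ∈ Set.range ιI := hrI ▸ y.2.2
        exact ⟨⟨x, show ιI x ∈ V₀ from hx ▸ y.2⟩, Subtype.ext (Eq.trans (by show ((ιI ∣_ V₀) ≫ V₀.ι) _ = ιI x; rw [morphismRestrict_ι]; rfl) hx)⟩⟩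
      have : IsClosedImmersion (ιI ∣_ V₀) := IsZariskiLocalAtTarget.restrict ‹_› _
      have h2 := universallyOpen_of_surjective_closedImmersion (ιI ∣_ V₀)
      have h3 : UniversallyOpen (fI ∣_ ιI ⁻¹ᵁ V₀) := by
        rw [hle]
        infer_instance
      exact MorphismProperty.comp_mem _ _ _ h3 h2
    exact e ▸ this
  rw [morphismRestrict_comp] at h1
  have : Surjective (pullback.fst f.left ιI ∣_ f.left ⁻¹ᵁ V₀) := IsZariskiLocalAtTarget.restrict hp _
  exact Groth.Agent.Thick.Topo.universallyOpen_of_comp_surjective (pullback.fst f.left ιI ∣_ f.left ⁻¹ᵁ V₀) _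

end Groth.Agent.GrpArtin.Spread
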